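import Cfsg.Agent.H371.AlgLemma_m3
import Cfsg.Agent.H378.TwRows
import Cfsg.Agent.H414.IsoE8_m3
import Cfsg.Agent.H378.RegE7
import Cfsg.Agent.S1066
import Cfsg.Agent.H493.EigFast
import Cfsg.Agent.H378.OmD4
import Cfsg.Agent.S1067
import Cfsg.Agent.Prune
set_option linter.all false

section
prune_inst 0x7f00000000000000000000000000000000000000000000000000000000000000000000000000000000000000000000000000000000000000000000000000000000000000000000000000000000000000003fffffffffffffffffffffffffffbeffbdffffffff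

-- part: H437/Iso/TwD4
section
set_option linter.all false
open scoped Cfsg.Agent.FastGrp

/-!
# Torus elements of the twisted groups; isolated numbers of `³D₄(u)` (helper437)

* `exists_t_gen`, `exists_order_eig`: elements of order `m`, `m ∣ f(q)`, in a twisted torus;
* `d4_row`: `n = u⁴ - u² + 1`; `d4_orderA`, `d4_orderB`: elements of order `(u³ - 1)(u + 1)`, `(u³ + 1)(u - 1)`.
-/

set_option autoImplicit false
set_option linter.unusedSectionVars false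

namespace Cfsg.Agent.H437.Iso

open CoxeterSystem Cfsg Cfsg.Lie Cfsg.Lie.ChevalleyDatum Cfsg.Agent.H129 Cfsg.Agent.H129.WData
open Cfsg.Agent.ChevalleyStructure Cfsg.Agent.ChevalleyStructure.CoxeterGeom
  Cfsg.Agent.ChevalleyStructure.CoxeterGeomTypes
open Cfsg.Agent.Tits.Roots Cfsg.Agent.Nodes Cfsg.Agent.Nodes.Reps Cfsg.Agent.Nodes.RGDChev
  Cfsg.Agent.H129.TorusUntw Cfsg.Agent.H129.TriD4 Cfsg.Agent.BpExc.TowChev Cfsg.Agent.BpExc.Tow
open Cfsg.Agent.H493.PGTorus Cfsg.Agent.H493.PGCyc Cfsg.Agent.H493.PGTwist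
open CoxeterSystem Cfsg Cfsg.Lie Cfsg.Lie.ChevalleyDatum
open Cfsg.Agent.ChevalleyStructure Cfsg.Agent.ChevalleyStructure.Elts Cfsg.Agent.ChevalleyStructure.CoxeterGeom
  Cfsg.Agent.ChevalleyStructure.CoxeterGeomTypes Cfsg.Agent.ChevalleyStructure.NPerm
open Cfsg.Agent.Tits.Roots Cfsg.Agent.Tits.Core Cfsg.Agent.Nodes Cfsg.Agent.Nodes.Reps Cfsg.Agent.Nodes.BNOf
  Cfsg.Agent.Nodes.RGDChev Cfsg.Agent.Nodes.Bruhat Cfsg.Agent.Nodes.SubComb Cfsg.Agent.Nodes.Coroot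
open Cfsg.Agent.KFacts.RgdField Cfsg.Agent.KFacts.RgdChevCoord Cfsg.Agent.BpExc.TorCent Cfsg.Agent.BpExc.TorChev
open Cfsg.Agent.GpExc.Field Cfsg.Agent.BpExc.Tow Cfsg.Agent.BpExc.TowChev Cfsg.Agent.BpExc.Fr
  Cfsg.Agent.BpExc.LangFr Cfsg.Agent.LangThm Cfsg.Agent.BpExc Cfsg.Agent.H129.TorusChar Cfsg.Agent.H129.TorusCent
  Cfsg.Agent.H129.TorusTw Cfsg.Agent.H129.TorusMain Cfsg.Agent.H493.PGTorus
open Cfsg.Agent.H360.Iso

universe u

/-! ### the general lemma -/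

section Alg

variable {D : ChevalleyDatum} {l : ℕ} {M : CoxeterMatrix (Fin l)} (hp : IsType D l M) {k : Type u} [Field k]
  [IsAlgClosed k] {W : Type*} [Group W] (cs : CoxeterSystem M W) {p e : ℕ} [Fact p.Prime] [CharP k p]
  {σ : MulAut ↥(D.group k)} {g : (Fin l → ℤ) ≃+ (Fin l → ℤ)}

/-- **Torus elements of order `m` prime to `p`.** -/
theorem exists_t_gen (hσ : IsFrob p e σ) (F : Fr cs hp.isCartan (TT D k) (XX D l k) σ g) {d' : ℕ}
    {B' : Fin l → Fin l → ℤ} (hB : InvC D l d' B') (hd' : d' ≠ 0) {L : (Fin l → ℤ) →+ ℤ} {m : ℕ} (hm : 0 < m)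
    (hmp : ¬ p ∣ m) (hL : ∀ x, (m : ℤ) ∣ L (g x) - ((p ^ e : ℕ) : ℤ) * L x) {x₀ : Fin l → ℤ} (hx₀ : L x₀ = 1) :
    ∃ t ∈ TT D k, σ t = t ∧ orderOf t = m := by
  have hmk : (m : k) ≠ 0 := by
    rw [Ne, CharP.cast_eq_zero_iff k p]
    exact hmp
  have : NeZero (m : k) := ⟨hmk⟩
  have : NeZero m := ⟨hm.ne'⟩
  obtain ⟨u, hu⟩ := HasEnoughRootsOfUnity.exists_primitiveRoot k m
  have hu0 : u ≠ 0 := hu.ne_zero hm.ne'
  have hMC : IsMC (fun x : Fin l → ℤ => u ^ L x) :=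
    ⟨by rw [map_zero, zpow_zero], fun x y => by rw [map_add, zpow_add₀ hu0]⟩
  obtain ⟨t, ht, hcX⟩ := exists_cX hp hB hd' hMC fun i =>
    IsAlgClosed.exists_pow_nat_eq _ (Nat.pos_of_ne_zero hd')
  have hone : ∀ z : ℤ, u ^ z = 1 ↔ (m : ℤ) ∣ z := fun z => hu.zpow_eq_one_iff_dvd z
  have hσt : σ t ∈ TT D k := (F.tor t).2 ht
  have hpow : ∀ j : ℕ, t ^ j = 1 → m ∣ j := by
    intro j hj
    have h1 : cX hp (t ^ j) x₀ = 1 := by rw [hj, cX_one]
    rw [cX_pow hp ht, hcX, hx₀, zpow_one] at h1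
    exact (hu.pow_eq_one_iff_dvd j).1 h1
  refine ⟨t, ht, ?_, ?_⟩
  · refine cX_inj hp hσt ht fun i => ?_
    have h1 : sr i = g (g.symm (sr i)) := (g.apply_symm_apply _).symm
    rw [h1, cX_sigma hp cs hσ F ht, hcX, hcX, ← zpow_natCast, ← zpow_mul]
    obtain ⟨N, hN⟩ := hL (g.symm (sr i))
    have h2 : L (g (g.symm (sr i))) = L (g.symm (sr i)) * ((p ^ e : ℕ) : ℤ) + (m : ℤ) * N := by
      rw [← hN]; ring
    rw [h2, zpow_add₀ hu0, (hone ((m : ℤ) * N)).2 (dvd_mul_right _ _), mul_one]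
  · have h1 : t ^ m = 1 := by
      refine cX_inj hp (pow_mem ht m) (one_mem _) fun i => ?_
      rw [cX_pow hp ht, cX_one, hcX, ← zpow_natCast, ← zpow_mul, hone]
      exact dvd_mul_left _ _
    exact Nat.dvd_antisymm (orderOf_dvd_of_pow_eq_one h1) (hpow _ (pow_orderOf_eq_one t))

variable {G0 : Type*} [Group G0] [Finite G0] {e0 : G0 →* ↥(D.group k)}

/-- **Elements of the finite twisted group**: `m ∣ orderOf x * d` for every `m ∣ f(q)`. -/
theorem exists_order_eig [Finite W] (hk : LocFin k) (he : 0 < e) (hσ : IsFrob p e σ)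
    (F : Fr cs hp.isCartan (TT D k) (XX D l k) σ g) {d' : ℕ} {B' : Fin l → Fin l → ℤ} (hB : InvC D l d' B')
    (hd' : d' ≠ 0) (he0 : Function.Injective e0) {d : ℕ} (hd : ∀ y, σ y = y → y ^ d ∈ e0.range)
    {w : W} {Th : Fin l → Fin l → ℤ} (hw : ∀ j, rep cs hp.isCartan w (g (sr j)) = Th j)
    {f : ℕ} {c : Fin (f + 1) → ℤ} {V : Fin (f + 1) → Fin l → ℤ} {U : Fin l → ℤ}
    (h : EigOK (fun i j => Th j i) c V U) (hc : c 0 = 1 ∨ c 0 = -1) {m : ℕ} (hm : 0 < m)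
    (h1 : (m : ℤ) ∣ pv c ((p ^ e : ℕ) : ℤ)) : ∃ x : G0, m ∣ orderOf x * d := by
  have hpm : ¬ p ∣ m := fun h2 => ne_char (r := p) hc Fact.out he ((Int.natCast_dvd_natCast.2 h2).trans h1) rfl
  obtain ⟨n, z, hz, hσ', F'⟩ := exists_z hp cs hk he hσ F w
  obtain ⟨t, ht, h3, h4⟩ := exists_t_gen hp cs hσ' F' hB hd' hm hpm (hL_of_eig hp cs hw h h1)
    (x₀ := U) (lam_unit h _)
  have ho : orderOf (z * t * z⁻¹) = orderOf t :=
    orderOf_injective (MulAut.conj z).toMonoidHom (MulAut.conj z).injective t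
  obtain ⟨x, hx⟩ := hd _ (fix_conj hz h3)
  refine ⟨x, ?_⟩
  rw [← h4, ← ho]
  apply orderOf_dvd_of_pow_eq_one
  rw [mul_comm, pow_mul, ← hx, ← map_pow, pow_orderOf_eq_one, map_one]

end Alg

/-- the partial products -/
def LD4a : List (Fin 4 × Mat 4) := [
    (1, ![![1, 1, 0, 0],
        ![0, -1, 0, 0],
        ![0, 1, 1, 0],
        ![0, 1, 0, 1]])]

/-- the matrix of the twisted element -/
def ThD4a : Mat 4 := ![![0, 1, 1, 0],
      ![0, -1, 0, 0],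
      ![0, 1, 0, 1],
      ![1, 1, 0, 0]]

/-- the eigenvector -/
def VD4a : Fin (3 + 1) → Fin 4 → ℤ := ![![1, -1, 0, 1],
      ![1, 0, 0, 0],
      ![0, 0, 1, 0],
      ![-1, 1, 0, 0]]

/-- the functional -/
def UD4a : Fin 4 → ℤ := ![0, 0, 0, 1]

/-- the polynomial -/
def kD4a : Fin (3 + 1) → ℤ := ![-1, -1, 0, 1]

theorem chainD4a : ChainOK H493.PGD4T.Am LD4a := by decide +kernel

theorem hThD4a : ∀ j, hd LD4a (H493.PGD4T.pi j) = ThD4a j := by decide +kernel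

theorem eigD4a : EigOK (fun i j => ThD4a j i) kD4a VD4a UD4a := by decide +kernel

theorem pvD4a (q : ℤ) : pv kD4a q = (q ^ 3 - 1) * (q + 1) := by
  simp [pv, kD4a, Fin.sum_univ_succ]
  ring

/-- the partial products -/
def LD4b : List (Fin 4 × Mat 4) := [
    (0, ![![-1, 0, 0, 0],
        ![1, 1, 0, 0],
        ![0, 0, 1, 0],
        ![0, 0, 0, 1]])]

/-- the matrix of the twisted element -/
def ThD4b : Mat 4 := ![![0, 0, 1, 0],
      ![1, 1, 0, 0],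
      ![0, 0, 0, 1],
      ![-1, 0, 0, 0]]

/-- the eigenvector -/
def VD4b : Fin (3 + 1) → Fin 4 → ℤ := ![![1, -1, 0, 0],
      ![-1, 0, 1, 0],
      ![0, 0, -1, 1],
      ![0, 0, 0, -1]]

/-- the functional -/
def UD4b : Fin 4 → ℤ := ![0, -1, 0, 0]

/-- the polynomial -/
def kD4b : Fin (3 + 1) → ℤ := ![-1, 1, 0, -1]

theorem chainD4b : ChainOK H493.PGD4T.Am LD4b := by decide +kernel

theorem hThD4b : ∀ j, hd LD4b (H493.PGD4T.pi j) = ThD4b j := by decide +kernel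

theorem eigD4b : EigOK (fun i j => ThD4b j i) kD4b VD4b UD4b := by decide +kernel

theorem pvD4b (q : ℤ) : pv kD4b q = (q ^ 3 + 1) * (q - 1) := by
  simp [pv, kD4b, Fin.sum_univ_succ]
  ring

section D

variable {K : Type u} [Field K] [Fintype K] {q : ℕ} (hq : IsPrimePow q) (hK : Fintype.card K = q ^ 3)

include hq hK

theorem d4_order {L : List (Fin 4 × Mat 4)} (hL : ChainOK H493.PGD4T.Am L) {Th : Mat 4}
    (hTh : ∀ j, hd L (H493.PGD4T.pi j) = Th j)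
    {f : ℕ} {c : Fin (f + 1) → ℤ} {V : Fin (f + 1) → Fin 4 → ℤ} {U : Fin 4 → ℤ}
    (h : EigOK (fun i j => Th j i) c V U) (hc : c 0 = 1 ∨ c 0 = -1) {m : ℕ} (hm : 0 < m)
    (h1 : (m : ℤ) ∣ pv c q) : ∃ x : ↥(twistedD4 K q), orderOf x = m := by
  have := H493.PGD4T.finW
  obtain ⟨p, e, hpF, hpk, he, hqe, hk⟩ := H493.PGD4T.setup hq hK
  have hqe' : (q : ℤ) = ((p ^ e : ℕ) : ℤ) := by rw [hqe]
  rw [hqe'] at h1
  obtain ⟨x, hx⟩ := exists_order_eig RGDTwD4.hp coxeterD4.toCoxeterSystem hk he isFrob_tau (fr_tau _) TorusChar.invC_D4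
    (by norm_num) (embT_injective (algebraMap K (AlgebraicClosure K)) hq hK) (d := 1)
    (fun y hy => by rw [pow_one]; exact tau_range _ hqe hq hK hy) (H493.PGD4T.lin _ hL hTh) h hc hm h1
  rw [mul_one] at hx
  exact exists_order ⟨x, hx⟩

theorem d4_order12 : ∃ x : ↥(twistedD4 K q), orderOf x = q ^ 4 - q ^ 2 + 1 := by
  refine d4_order hq hK H493.PGD4T.chainC_ok H493.PGD4T.hThC H493.PGD4T.eigC_12 (by decide) (by omega) ?_
  rw [H493.PGCyc.pv_c12]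
  have h3 : q ^ 2 ≤ q ^ 4 := Nat.pow_le_pow_right hq.pos (by norm_num)
  push_cast [h3]
  exact dvd_rfl

theorem d4_orderA : ∃ x : ↥(twistedD4 K q), orderOf x = (q ^ 3 - 1) * (q + 1) := by
  have h2 : 1 < q := hq.one_lt
  have h3 : 1 < q ^ 3 := Nat.one_lt_pow (by norm_num) h2
  refine d4_order hq hK chainD4a hThD4a eigD4a (by decide) (Nat.mul_pos (by omega) (by omega)) ?_
  rw [pvD4a]
  push_cast [h3.le]
  exact dvd_rfl

theorem d4_orderB : ∃ x : ↥(twistedD4 K q), orderOf x = (q ^ 3 + 1) * (q - 1) := by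
  have h2 : 1 < q := hq.one_lt
  refine d4_order hq hK chainD4b hThD4b eigD4b (by decide) (Nat.mul_pos (by omega) (by omega)) ?_
  rw [pvD4b]
  push_cast [h2.le]
  exact dvd_rfl

/-- **`³D₄(u)`.** -/
theorem d4_row {n : ℕ} (h : IsoN ↥(twistedD4 K q) n) : n = q ^ 4 - q ^ 2 + 1 := by
  obtain ⟨r, hr, hrn⟩ := h.exists_prime
  have h3 : q ^ 2 ≤ q ^ 4 := Nat.pow_le_pow_right hq.pos (by norm_num)
  have h4 : ((q ^ 4 - q ^ 2 + 1 : ℕ) : ℤ) = (q : ℤ) ^ 4 - q ^ 2 + 1 := by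
    push_cast [h3]
    rfl
  rcases H378.TwRows.near_3D4 hq hK hr (h.prime_dvd_card hrn) with h1 | h1
  · exact absurd h1 (h.not_near hrn)
  · have hfin : Finite ↥(twistedD4 K q) := inferInstance
    apply Nat.dvd_antisymm
    · obtain ⟨g, hg⟩ := h.elt
      obtain ⟨k, hk⟩ := hrn
      have hn0 : 0 < n := by have := h.big; omega
      have hk0 : k ≠ 0 := by
        rintro rfl
        omega
      have h1' : orderOf (g ^ k) = r := by
        rw [orderOf_pow_of_dvd hk0 (by rw [hg, hk]; exact dvd_mul_left _ _), hg, hk,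
          Nat.mul_div_cancel _ (Nat.pos_of_ne_zero hk0)]
      have h2 := (H378.TwRows.cent_3D4 hq hK hr h1' h1).2
      rw [H378.TwRows.eval_cyc12, ← h4, Int.natAbs_natCast] at h2
      have h3' : g ∈ Subgroup.centralizer {g ^ k} := by
        rw [Subgroup.mem_centralizer_singleton_iff]
        exact (Commute.self_pow g k).eq
      have h5 : orderOf (⟨g, h3'⟩ : ↥(Subgroup.centralizer {g ^ k})) ∣ Nat.card ↥(Subgroup.centralizer {g ^ k}) :=
        orderOf_dvd_natCard _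
      rw [Subgroup.orderOf_mk, hg] at h5
      exact h5.trans h2
    · refine h.dvd_of_elt (d4_order12 hq hK) hr hrn ?_
      have h2 := H378.CycTab.dvd12 hr h1
      rw [H378.CycTab.pv12, ← h4] at h2
      exact_mod_cast h2

end D

end Cfsg.Agent.H437.Iso

private theorem dce_6222ccf3459c : _root_.True := by
  try have : _root_.True := by simp only [_root_.Cfsg.Agent.H437.Iso.kD4a.eq_1]
  try have : _root_.True := by simp only [_root_.Cfsg.Agent.H437.Iso.kD4b.eq_1]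
  exact _root_.True.intro
end

-- part: H366/IsoE6_mg
section
set_option linter.all false
open scoped Cfsg.Agent.FastGrp

-- part: H366/IsoE6
section
/-!
# Isolated numbers of `E₆(u)` (helper366)

* `e6_row`: `n g = u⁶ + u³ + 1`, `g = (3, u - 1)`;
* `e6_orderA`: elements of order `(u⁵ - 1)(u + 1) / g`; `e6_orderC`: elements of order `(u² + u + 1)(u⁴ - u² + 1) / g`.
-/

set_option autoImplicit false

namespace Cfsg.Agent.H366.Iso

open CoxeterSystem Cfsg Cfsg.Lie Cfsg.Lie.ChevalleyDatum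
open Cfsg.Agent.ChevalleyStructure.CoxeterGeomTypes
open Cfsg.Agent.BpExc.FamInst Cfsg.Agent.BpExc.RowsUntw Cfsg.Agent.Nodes.RGDChev Cfsg.Agent.BpExc.FamExt
open Cfsg.Agent.H378.AdjTab Cfsg.Agent.H378.CycTab Cfsg.Agent.H378.ExcAdj Cfsg.Agent.H378.ExcNear
open Cfsg.Agent.H493.PGTorus Cfsg.Agent.H129.WData Cfsg.Agent.H360.Iso Cfsg.Agent.H437.Iso

universe u

/-- the partial products -/
def LE6a : List (Fin 6 × Mat 6) := [
    (5, ![![-1, -1, -1, -1, 0, 0],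
        ![0, 0, 0, 1, 0, 0],
        ![1, 0, 0, 0, 0, 0],
        ![0, 0, 1, 0, 0, 0],
        ![0, 1, 0, 1, 1, 1],
        ![0, 0, 0, 0, 0, -1]]),
    (1, ![![-1, -1, -1, -1, 0, 0],
        ![0, 0, 0, 1, 0, 0],
        ![1, 0, 0, 0, 0, 0],
        ![0, 0, 1, 0, 0, 0],
        ![0, 1, 0, 1, 1, 0],
        ![0, 0, 0, 0, 0, 1]]),
    (3, ![![-1, 0, -1, -1, 0, 0],
        ![0, 1, 0, 1, 0, 0],
        ![1, 0, 0, 0, 0, 0],
        ![0, 0, 1, 0, 0, 0],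
        ![0, 0, 0, 1, 1, 0],
        ![0, 0, 0, 0, 0, 1]]),
    (2, ![![-1, 0, -1, 0, 0, 0],
        ![0, 1, 0, 0, 0, 0],
        ![1, 0, 0, 0, 0, 0],
        ![0, 0, 1, 1, 0, 0],
        ![0, 0, 0, 0, 1, 0],
        ![0, 0, 0, 0, 0, 1]]),
    (0, ![![-1, 0, 0, 0, 0, 0],
        ![0, 1, 0, 0, 0, 0],
        ![1, 0, 1, 0, 0, 0],
        ![0, 0, 0, 1, 0, 0],
        ![0, 0, 0, 0, 1, 0],
        ![0, 0, 0, 0, 0, 1]])]

/-- the eigenvector -/
def VE6a : Fin (5 + 1) → Fin 6 → ℤ := ![![0, 0, 0, 1, 1, 1],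
      ![1, 1, 1, 2, 2, 1],
      ![1, 1, 2, 2, 2, 1],
      ![1, 1, 2, 3, 2, 1],
      ![1, 2, 2, 3, 2, 1],
      ![0, 1, 1, 1, 1, 0]]

/-- the functional -/
def UE6a : Fin 6 → ℤ := ![-1, 0, 0, 0, 0, 1]

/-- the polynomial -/
def kE6a : Fin (5 + 1) → ℤ := ![-1, -1, 0, 0, 0, 1]

theorem chainE6a : ChainOK H378.AdjE6.Am LE6a :=
  H129.ChainF.ok H129.ChainF.i6 H129.ChainF.m6 (H129.ChainF.c6 <| H129.ChainF.c6 <| H129.ChainF.c6 <| H129.ChainF.c6 <| H129.ChainF.c6 <| H129.ChainF.nil) (by decide +kernel)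

theorem eigE6a : EigOK (hd LE6a) kE6a VE6a UE6a :=
  H493.EigF.ok (H493.EigF.hT H493.EigF.t6) H493.EigF.r6 (H493.EigF.mc H493.EigF.r6 <| H493.EigF.mc H493.EigF.r6 <| H493.EigF.mc H493.EigF.r6 <| H493.EigF.mc H493.EigF.r6 <| H493.EigF.mc H493.EigF.r6 <| H493.EigF.mc H493.EigF.r6 <| H493.EigF.m0) H493.EigF.r6 (by decide +kernel)

theorem pvE6a (q : ℤ) : pv kE6a q = (q ^ 5 - 1) * (q + 1) := by
  simp [pv, kE6a, Fin.sum_univ_succ]
  ring

/-- the eigenvector -/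
def VE6c : Fin (5 + 1) → Fin 6 → ℤ := ![![-3, 1, -1, -2, 1, -2],
      ![0, 2, -1, 0, 1, 1],
      ![1, -2, 1, 0, -1, 0],
      ![1, 0, 0, 1, -1, 1],
      ![-1, -1, 0, -1, 0, -2],
      ![-2, 3, -1, -1, 2, 0]]

/-- the functional -/
def UE6c : Fin 6 → ℤ := ![-1, -1, -1, 0, 0, 1]

/-- the polynomial -/
def kE6c : Fin (5 + 1) → ℤ := ![1, 1, 0, -1, 0, 1]

theorem eigE6c : EigOK (hd H378.AdjE6.T12) kE6c VE6c UE6c :=
  H493.EigF.ok (H493.EigF.hT H493.EigF.t6) H493.EigF.r6 (H493.EigF.mc H493.EigF.r6 <| H493.EigF.mc H493.EigF.r6 <| H493.EigF.mc H493.EigF.r6 <| H493.EigF.mc H493.EigF.r6 <| H493.EigF.mc H493.EigF.r6 <| H493.EigF.mc H493.EigF.r6 <| H493.EigF.m0) H493.EigF.r6 (by decide +kernel)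

theorem pvE6c (q : ℤ) : pv kE6c q = (q ^ 2 + q + 1) * (q ^ 4 - q ^ 2 + 1) := by
  simp [pv, kE6c, Fin.sum_univ_succ]
  ring

/-- an element of order `m / gcd(d, q - 1)` in a cyclic torus -/
theorem exists_order_d {D : ChevalleyDatum} {l : ℕ} {M : CoxeterMatrix (Fin l)} (hp : IsType D l M)
    {W : Type*} [Group W] [Finite W] (cs : CoxeterSystem M W) {d : ℕ}
    {B : Fin l → Fin l → ℤ} (hB : InvC D l d B) (hd0 : d ≠ 0) {A : Mat l}
    (hA : ∀ i j, A i j = cartanOf D l i j) {L : List (Fin l × Mat l)} (hL : ChainOK A L)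
    {f : ℕ} {c : Fin (f + 1) → ℤ} {V : Fin (f + 1) → Fin l → ℤ} {U : Fin l → ℤ} (h : EigOK (hd L) c V U)
    {F : Type u} [Field F] [Finite F] {m k : ℕ} (hk : 0 < k) (hm : m = k * Nat.gcd d (Nat.card F - 1))
    (hdv : (m : ℤ) ∣ pv c (Nat.card F : ℕ)) : ∃ x : ↥(D.group F), orderOf x = k := by
  have hg : 0 < Nat.gcd d (Nat.card F - 1) := Nat.gcd_pos_of_pos_left _ (Nat.pos_of_ne_zero hd0)
  have hm0 : 0 < m := by rw [hm]; exact Nat.mul_pos hk hg
  obtain ⟨x, -, -, h1, -⟩ := exists_comm_torus hp cs hB hd0 hA hL h h (F := F) hm0 hm0 hdv hdv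
  rw [hm] at h1
  exact exists_order ⟨x, Nat.dvd_of_mul_dvd_mul_right hg h1⟩

theorem eval_cyc9 (q : ℤ) : (Polynomial.cyclotomic 9 ℤ).eval q = q ^ 6 + q ^ 3 + 1 := by
  have h := Polynomial.cyclotomic_prime_pow_eq_geom_sum (R := ℤ) Nat.prime_three (n := 1)
  rw [show 3 ^ (1 + 1) = 9 from rfl] at h
  rw [h]
  simp [Finset.sum_range_succ, Polynomial.eval_add, Polynomial.eval_pow]
  ring

variable {F : Type u} [Field F] [Finite F]

theorem g3_dvd (u : ℕ) (hu : 1 ≤ u) : Nat.gcd 3 (u - 1) ∣ u ^ 2 + u + 1 := by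
  have h1 : Nat.gcd 3 (u - 1) = 1 ∨ Nat.gcd 3 (u - 1) = 3 := (Nat.dvd_prime Nat.prime_three).1 (Nat.gcd_dvd_left _ _)
  rcases h1 with h1 | h1
  · rw [h1]; exact one_dvd _
  · rw [h1]
    have h2 : 3 ∣ u - 1 := by rw [← h1]; exact Nat.gcd_dvd_right _ _
    obtain ⟨k, hk⟩ := h2
    have e : u = 3 * k + 1 := by omega
    rw [e]
    exact ⟨3 * k ^ 2 + 3 * k + 1, by ring⟩

theorem g3_dvd9 (u : ℕ) (hu : 1 ≤ u) : Nat.gcd 3 (u - 1) ∣ u ^ 6 + u ^ 3 + 1 := by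
  have h1 : Nat.gcd 3 (u - 1) = 1 ∨ Nat.gcd 3 (u - 1) = 3 := (Nat.dvd_prime Nat.prime_three).1 (Nat.gcd_dvd_left _ _)
  rcases h1 with h1 | h1
  · rw [h1]; exact one_dvd _
  · rw [h1]
    have h2 : 3 ∣ u - 1 := by rw [← h1]; exact Nat.gcd_dvd_right _ _
    have h3 : u % 3 = 1 := by omega
    apply Nat.dvd_of_mod_eq_zero
    rw [Nat.add_mod, Nat.add_mod (u ^ 6), Nat.pow_mod, Nat.pow_mod u 3, h3]

/-- elements of order `(u⁵ - 1)(u + 1) / g` -/
theorem e6_orderA : ∃ x : ↥(chevE6.group F), orderOf x =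
    (Nat.card F ^ 5 - 1) * (Nat.card F + 1) / Nat.gcd 3 (Nat.card F - 1) := by
  let cs : CoxeterSystem CoxeterMatrix.E₆ CoxeterMatrix.E₆.Group := CoxeterMatrix.E₆.toCoxeterSystem
  have := finite_W e6T cs
  have h2 : 1 < Nat.card F := Finite.one_lt_card
  have h3 : 1 < Nat.card F ^ 5 := Nat.one_lt_pow (by norm_num) h2
  have hg0 : 0 < Nat.gcd 3 (Nat.card F - 1) := Nat.gcd_pos_of_pos_left _ (by norm_num)
  have hgd : Nat.gcd 3 (Nat.card F - 1) ∣ (Nat.card F ^ 5 - 1) * (Nat.card F + 1) := by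
    refine Dvd.dvd.mul_right ((Nat.gcd_dvd_right _ _).trans ?_) _
    have := Nat.sub_dvd_pow_sub_pow (Nat.card F) 1 5
    rwa [one_pow] at this
  have hpos : 0 < (Nat.card F ^ 5 - 1) * (Nat.card F + 1) := Nat.mul_pos (by omega) (by omega)
  refine exists_order_d e6T cs inv_E6 three_ne_zero H378.AdjE6.hA chainE6a eigE6a
    (Nat.div_pos (Nat.le_of_dvd hpos hgd) hg0) (Nat.div_mul_cancel hgd).symm ?_
  rw [pvE6a]
  push_cast [h3.le]
  exact dvd_rfl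

/-- elements of order `(u² + u + 1)(u⁴ - u² + 1) / g` -/
theorem e6_orderC : ∃ x : ↥(chevE6.group F), orderOf x =
    (Nat.card F ^ 2 + Nat.card F + 1) * (Nat.card F ^ 4 - Nat.card F ^ 2 + 1) / Nat.gcd 3 (Nat.card F - 1) := by
  let cs : CoxeterSystem CoxeterMatrix.E₆ CoxeterMatrix.E₆.Group := CoxeterMatrix.E₆.toCoxeterSystem
  have := finite_W e6T cs
  have h2 : 1 < Nat.card F := Finite.one_lt_card
  have hg0 : 0 < Nat.gcd 3 (Nat.card F - 1) := Nat.gcd_pos_of_pos_left _ (by norm_num)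
  have hgd : Nat.gcd 3 (Nat.card F - 1) ∣ (Nat.card F ^ 2 + Nat.card F + 1) * (Nat.card F ^ 4 - Nat.card F ^ 2 + 1) :=
    Dvd.dvd.mul_right (g3_dvd _ h2.le) _
  have hpos : 0 < (Nat.card F ^ 2 + Nat.card F + 1) * (Nat.card F ^ 4 - Nat.card F ^ 2 + 1) :=
    Nat.mul_pos (by positivity) (by omega)
  refine exists_order_d e6T cs inv_E6 three_ne_zero H378.AdjE6.hA H378.AdjE6.chain12 eigE6c
    (Nat.div_pos (Nat.le_of_dvd hpos hgd) hg0) (Nat.div_mul_cancel hgd).symm ?_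
  rw [pvE6c, ← f4_cast12]
  push_cast
  exact dvd_rfl

/-- elements of order `(u⁶ + u³ + 1) / g` -/
theorem e6_order9 : ∃ x : ↥(chevE6.group F), orderOf x =
    (Nat.card F ^ 6 + Nat.card F ^ 3 + 1) / Nat.gcd 3 (Nat.card F - 1) := by
  let cs : CoxeterSystem CoxeterMatrix.E₆ CoxeterMatrix.E₆.Group := CoxeterMatrix.E₆.toCoxeterSystem
  have := finite_W e6T cs
  have h2 : 1 < Nat.card F := Finite.one_lt_card
  have hg0 : 0 < Nat.gcd 3 (Nat.card F - 1) := Nat.gcd_pos_of_pos_left _ (by norm_num)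
  have hgd := g3_dvd9 _ h2.le
  refine exists_order_d e6T cs inv_E6 three_ne_zero H378.AdjE6.hA H378.AdjE6.chain9 H378.AdjE6.tor9_9
    (Nat.div_pos (Nat.le_of_dvd (by positivity) hgd) hg0) (Nat.div_mul_cancel hgd).symm ?_
  rw [pv9]
  push_cast
  exact dvd_rfl

/-- **`E₆(u)`.** -/
theorem e6_row {n : ℕ} (h : IsoN ↥(chevE6.group F) n) :
    n * Nat.gcd 3 (Nat.card F - 1) = Nat.card F ^ 6 + Nat.card F ^ 3 + 1 := by
  obtain ⟨r, hr, hrn⟩ := h.exists_prime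
  have h2 : 1 < Nat.card F := Finite.one_lt_card
  have hgd := g3_dvd9 _ h2.le
  rcases near_E6 F hr (h.prime_dvd_card hrn) with h1 | h1
  · exact absurd h1 (h.not_near hrn)
  · have hcast : ((Nat.card F : ℕ) : ℤ) ^ 6 + ((Nat.card F : ℕ) : ℤ) ^ 3 + 1 =
        ((Nat.card F ^ 6 + Nat.card F ^ 3 + 1 : ℕ) : ℤ) := by push_cast; rfl
    have hcent : ∀ x : ↥(chevE6.group F), orderOf x = r →
        Nat.card ↥(Subgroup.centralizer {x}) ∣ Nat.card F ^ 6 + Nat.card F ^ 3 + 1 := by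
      intro x hx
      have h3 := (H378.RegFin.cent_od e6T inv_E6 three_ne_zero hr hx h1 (by decide) (by norm_num)).2
      rw [eval_cyc9, hcast, Int.natAbs_natCast] at h3
      exact h3
    have hd1 : n ∣ Nat.card F ^ 6 + Nat.card F ^ 3 + 1 := by
      obtain ⟨g, hg⟩ := h.elt
      obtain ⟨k, hk⟩ := hrn
      have hn0 : 0 < n := by have := h.big; omega
      have hk0 : k ≠ 0 := by
        rintro rfl
        omega
      have h4 : orderOf (g ^ k) = r := by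
        rw [orderOf_pow_of_dvd hk0 (by rw [hg, hk]; exact dvd_mul_left _ _), hg, hk,
          Nat.mul_div_cancel _ (Nat.pos_of_ne_zero hk0)]
      have h5 := hcent _ h4
      have h6 : g ∈ Subgroup.centralizer {g ^ k} := by
        rw [Subgroup.mem_centralizer_singleton_iff]
        exact (Commute.self_pow g k).eq
      have h7 : orderOf (⟨g, h6⟩ : ↥(Subgroup.centralizer {g ^ k})) ∣ Nat.card ↥(Subgroup.centralizer {g ^ k}) :=
        orderOf_dvd_natCard _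
      rw [Subgroup.orderOf_mk, hg] at h7
      exact h7.trans h5
    have hco : Nat.Coprime n (Nat.gcd 3 (Nat.card F - 1)) :=
      Nat.Coprime.coprime_dvd_right (Nat.gcd_dvd_left _ _)
        ((Nat.Prime.coprime_iff_not_dvd Nat.prime_three).2 h.not_three_dvd).symm
    have hd2 : n ∣ (Nat.card F ^ 6 + Nat.card F ^ 3 + 1) / Nat.gcd 3 (Nat.card F - 1) :=
      hco.dvd_of_dvd_mul_right (by rw [Nat.div_mul_cancel hgd]; exact hd1)
    have hr3 : r ≠ 3 := h.ne_three hrn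
    have hd3 : (Nat.card F ^ 6 + Nat.card F ^ 3 + 1) / Nat.gcd 3 (Nat.card F - 1) ∣ n := by
      refine h.dvd_of_elt e6_order9 hr hrn ?_
      have h3 := dvd9 hr h1
      rw [pv9, hcast] at h3
      have h4 : r ∣ Nat.card F ^ 6 + Nat.card F ^ 3 + 1 := by exact_mod_cast h3
      rw [← Nat.div_mul_cancel hgd] at h4
      rcases hr.dvd_mul.1 h4 with h5 | h5
      · exact h5
      · exfalso
        exact hr3 ((Nat.prime_dvd_prime_iff_eq hr Nat.prime_three).1 (h5.trans (Nat.gcd_dvd_left _ _)))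
    rw [Nat.dvd_antisymm hd2 hd3, Nat.div_mul_cancel hgd]

end Cfsg.Agent.H366.Iso
end

-- part: H366/IsoE6T
section
/-!
# Isolated numbers of `²E₆(u)` (helper366)

* `e6t_row`: `n g = u⁶ - u³ + 1`, `g = (3, u + 1)`, or `u = 2` and `n ∣ 13 * 17 * 19`;
* `e6t_orderA`: elements of order `(u⁵ + 1)(u - 1) / g`; `e6t_orderC`: elements of order `(u² - u + 1)(u⁴ - u² + 1) / g`;
* `e6t_order18`: elements of order `(u⁶ - u³ + 1) / g`.
-/

set_option autoImplicit false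
set_option linter.unusedSectionVars false

namespace Cfsg.Agent.H366.Iso

open CoxeterSystem Cfsg Cfsg.Lie Cfsg.Lie.ChevalleyDatum Cfsg.Agent.H129 Cfsg.Agent.H129.WData
open Cfsg.Agent.ChevalleyStructure Cfsg.Agent.ChevalleyStructure.CoxeterGeom
  Cfsg.Agent.ChevalleyStructure.CoxeterGeomTypes
open Cfsg.Agent.Tits.Roots Cfsg.Agent.Nodes Cfsg.Agent.Nodes.Reps Cfsg.Agent.Nodes.RGDChev
  Cfsg.Agent.H129.TorusUntw Cfsg.Agent.H493.TwE6Alg Cfsg.Agent.BpExc.TowChev Cfsg.Agent.BpExc.Tow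
open Cfsg.Agent.H493.PGTorus Cfsg.Agent.H360.Iso Cfsg.Agent.H437.Iso

universe u

/-- the partial products -/
def LE6tA : List (Fin 6 × Mat 6) := [
    (4, ![![1, 0, 0, 0, 0, 0],
        ![0, 1, 0, 1, 1, 0],
        ![0, 0, 1, 1, 1, 0],
        ![0, 0, 0, -1, -1, 0],
        ![0, 0, 0, 1, 1, 1],
        ![0, 0, 0, 0, -1, -1]]),
    (5, ![![1, 0, 0, 0, 0, 0],
        ![0, 1, 0, 1, 0, 0],
        ![0, 0, 1, 1, 0, 0],
        ![0, 0, 0, -1, 0, 0],
        ![0, 0, 0, 1, 1, 1],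
        ![0, 0, 0, 0, 0, -1]]),
    (3, ![![1, 0, 0, 0, 0, 0],
        ![0, 1, 0, 1, 0, 0],
        ![0, 0, 1, 1, 0, 0],
        ![0, 0, 0, -1, 0, 0],
        ![0, 0, 0, 1, 1, 0],
        ![0, 0, 0, 0, 0, 1]])]

/-- the matrix of the twisted element -/
def ThE6tA : Mat 6 := ![![0, 0, 0, 0, -1, -1],
      ![0, 1, 0, 1, 1, 0],
      ![0, 0, 0, 1, 1, 1],
      ![0, 0, 0, -1, -1, 0],
      ![0, 0, 1, 1, 1, 0],
      ![1, 0, 0, 0, 0, 0]]

/-- the eigenvector -/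
def VE6tA : Fin (5 + 1) → Fin 6 → ℤ := ![![0, 1, -1, 0, 0, -1],
      ![-1, 0, 1, -1, 1, 0],
      ![0, -1, 0, 0, 1, 0],
      ![0, -1, 1, 0, 0, 0],
      ![0, -1, 0, 1, -1, 1],
      ![1, 1, -1, 0, -1, 0]]

/-- the functional -/
def UE6tA : Fin 6 → ℤ := ![-1, -1, -1, -1, -1, -1]

/-- the polynomial -/
def kE6tA : Fin (5 + 1) → ℤ := ![-1, 1, 0, 0, 0, -1]

theorem chainE6tA : ChainOK H493.PGE6T.Am LE6tA :=
  H129.ChainF.ok H129.ChainF.i6 H129.ChainF.m6 (H129.ChainF.c6 <| H129.ChainF.c6 <| H129.ChainF.c6 <| H129.ChainF.nil) (by decide +kernel)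

theorem hThE6tA : ∀ j, hd LE6tA (H493.TwE6Alg.pi j) = ThE6tA j := by decide +kernel

theorem eigE6tA : EigOK (fun i j => ThE6tA j i) kE6tA VE6tA UE6tA :=
  H493.EigF.ok (H493.EigF.tt ThE6tA H129.ChainF.m6) H493.EigF.r6 (H493.EigF.mc H493.EigF.r6 <| H493.EigF.mc H493.EigF.r6 <| H493.EigF.mc H493.EigF.r6 <| H493.EigF.mc H493.EigF.r6 <| H493.EigF.mc H493.EigF.r6 <| H493.EigF.mc H493.EigF.r6 <| H493.EigF.m0) H493.EigF.r6 (by decide +kernel)

/-- the partial products -/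
def LE6tB : List (Fin 6 × Mat 6) := [
    (3, ![![-1, 0, -1, -1, 0, 0],
        ![0, -1, 0, -1, 0, 0],
        ![1, 0, 0, 0, 0, 0],
        ![0, 1, 1, 1, 0, 0],
        ![0, 0, 0, 1, 1, 0],
        ![0, 0, 0, 0, 0, 1]]),
    (2, ![![-1, 0, -1, 0, 0, 0],
        ![0, -1, 0, 0, 0, 0],
        ![1, 0, 0, 0, 0, 0],
        ![0, 1, 1, 1, 0, 0],
        ![0, 0, 0, 0, 1, 0],
        ![0, 0, 0, 0, 0, 1]]),
    (1, ![![-1, 0, 0, 0, 0, 0],
        ![0, -1, 0, 0, 0, 0],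
        ![1, 0, 1, 0, 0, 0],
        ![0, 1, 0, 1, 0, 0],
        ![0, 0, 0, 0, 1, 0],
        ![0, 0, 0, 0, 0, 1]]),
    (0, ![![-1, 0, 0, 0, 0, 0],
        ![0, 1, 0, 0, 0, 0],
        ![1, 0, 1, 0, 0, 0],
        ![0, 0, 0, 1, 0, 0],
        ![0, 0, 0, 0, 1, 0],
        ![0, 0, 0, 0, 0, 1]])]

/-- the matrix of the twisted element -/
def ThE6tB : Mat 6 := ![![0, 0, 0, 0, 0, 1],
      ![0, -1, 0, -1, 0, 0],
      ![0, 0, 0, 1, 1, 0],
      ![0, 1, 1, 1, 0, 0],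
      ![1, 0, 0, 0, 0, 0],
      ![-1, 0, -1, -1, 0, 0]]

/-- the eigenvector -/
def VE6tB : Fin (5 + 1) → Fin 6 → ℤ := ![![0, -1, 0, 0, 1, -1],
      ![1, 0, -1, 1, -1, 0],
      ![-1, 0, 1, 0, -1, 1],
      ![-1, 1, 0, 0, 0, 0],
      ![0, 0, 1, -1, 1, -1],
      ![1, -1, -1, 1, 0, 0]]

/-- the functional -/
def UE6tB : Fin 6 → ℤ := ![-1, -1, -1, -1, -1, -1]

/-- the polynomial -/
def kE6tB : Fin (5 + 1) → ℤ := ![1, 0, 0, -1, 0, 0]

theorem chainE6tB : ChainOK H493.PGE6T.Am LE6tB :=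
  H129.ChainF.ok H129.ChainF.i6 H129.ChainF.m6 (H129.ChainF.c6 <| H129.ChainF.c6 <| H129.ChainF.c6 <| H129.ChainF.c6 <| H129.ChainF.nil) (by decide +kernel)

theorem hThE6tB : ∀ j, hd LE6tB (H493.TwE6Alg.pi j) = ThE6tB j := by decide +kernel

theorem eigE6tB : EigOK (fun i j => ThE6tB j i) kE6tB VE6tB UE6tB :=
  H493.EigF.ok (H493.EigF.tt ThE6tB H129.ChainF.m6) H493.EigF.r6 (H493.EigF.mc H493.EigF.r6 <| H493.EigF.mc H493.EigF.r6 <| H493.EigF.mc H493.EigF.r6 <| H493.EigF.mc H493.EigF.r6 <| H493.EigF.mc H493.EigF.r6 <| H493.EigF.mc H493.EigF.r6 <| H493.EigF.m0) H493.EigF.r6 (by decide +kernel)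

/-- the partial products -/
def LE6tC : List (Fin 6 × Mat 6) := [
    (5, ![![1, 0, 1, 0, 0, 0],
        ![0, -1, -1, -1, -1, -1],
        ![0, 0, 0, 1, 1, 1],
        ![0, 1, 0, 0, 0, 0],
        ![0, 0, 1, 1, 1, 0],
        ![0, 0, 0, 0, -1, 0]]),
    (2, ![![1, 0, 1, 0, 0, 0],
        ![0, -1, -1, -1, -1, 0],
        ![0, 0, 0, 1, 1, 0],
        ![0, 1, 0, 0, 0, 0],
        ![0, 0, 1, 1, 1, 1],
        ![0, 0, 0, 0, -1, -1]]),
    (4, ![![1, 0, 0, 0, 0, 0],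
        ![0, -1, 0, -1, -1, 0],
        ![0, 0, 1, 1, 1, 0],
        ![0, 1, 0, 0, 0, 0],
        ![0, 0, 0, 1, 1, 1],
        ![0, 0, 0, 0, -1, -1]]),
    (5, ![![1, 0, 0, 0, 0, 0],
        ![0, -1, 0, -1, 0, 0],
        ![0, 0, 1, 1, 0, 0],
        ![0, 1, 0, 0, 0, 0],
        ![0, 0, 0, 1, 1, 1],
        ![0, 0, 0, 0, 0, -1]]),
    (3, ![![1, 0, 0, 0, 0, 0],
        ![0, -1, 0, -1, 0, 0],
        ![0, 0, 1, 1, 0, 0],
        ![0, 1, 0, 0, 0, 0],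
        ![0, 0, 0, 1, 1, 0],
        ![0, 0, 0, 0, 0, 1]]),
    (1, ![![1, 0, 0, 0, 0, 0],
        ![0, -1, 0, 0, 0, 0],
        ![0, 0, 1, 0, 0, 0],
        ![0, 1, 0, 1, 0, 0],
        ![0, 0, 0, 0, 1, 0],
        ![0, 0, 0, 0, 0, 1]])]

/-- the matrix of the twisted element -/
def ThE6tC : Mat 6 := ![![0, 0, 0, 0, -1, 0],
      ![0, -1, -1, -1, -1, -1],
      ![0, 0, 1, 1, 1, 0],
      ![0, 1, 0, 0, 0, 0],
      ![0, 0, 0, 1, 1, 1],
      ![1, 0, 1, 0, 0, 0]]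

/-- the eigenvector -/
def VE6tC : Fin (5 + 1) → Fin 6 → ℤ := ![![0, 0, 0, 0, -1, 0],
      ![-1, 0, 1, -1, 1, 0],
      ![0, -1, 0, 0, 1, 0],
      ![0, 0, 0, 0, -1, 1],
      ![0, 0, 1, -1, 0, 0],
      ![-1, -1, 1, 0, 1, 0]]

/-- the functional -/
def UE6tC : Fin 6 → ℤ := ![-1, -1, -1, -1, -1, -1]

/-- the polynomial -/
def kE6tC : Fin (5 + 1) → ℤ := ![1, -1, 0, 1, 0, -1]

theorem chainE6tC : ChainOK H493.PGE6T.Am LE6tC :=
  H129.ChainF.ok H129.ChainF.i6 H129.ChainF.m6 (H129.ChainF.c6 <| H129.ChainF.c6 <| H129.ChainF.c6 <| H129.ChainF.c6 <| H129.ChainF.c6 <| H129.ChainF.c6 <| H129.ChainF.nil) (by decide +kernel)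

theorem hThE6tC : ∀ j, hd LE6tC (H493.TwE6Alg.pi j) = ThE6tC j := by decide +kernel

theorem eigE6tC : EigOK (fun i j => ThE6tC j i) kE6tC VE6tC UE6tC :=
  H493.EigF.ok (H493.EigF.tt ThE6tC H129.ChainF.m6) H493.EigF.r6 (H493.EigF.mc H493.EigF.r6 <| H493.EigF.mc H493.EigF.r6 <| H493.EigF.mc H493.EigF.r6 <| H493.EigF.mc H493.EigF.r6 <| H493.EigF.mc H493.EigF.r6 <| H493.EigF.mc H493.EigF.r6 <| H493.EigF.m0) H493.EigF.r6 (by decide +kernel)

theorem pvE6tA (q : ℤ) : pv kE6tA q = (q ^ 5 + 1) * (q - 1) := by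
  simp [pv, kE6tA, Fin.sum_univ_succ]
  ring

theorem pvE6tB (q : ℤ) : pv kE6tB q = q ^ 6 - q ^ 3 + 1 := by
  simp [pv, kE6tB, Fin.sum_univ_succ]
  try ring

theorem pvE6tC (q : ℤ) : pv kE6tC q = (q ^ 2 - q + 1) * (q ^ 4 - q ^ 2 + 1) := by
  simp [pv, kE6tC, Fin.sum_univ_succ]
  ring

theorem gt3_cases (u : ℕ) : Nat.gcd 3 (u + 1) = 1 ∨ (Nat.gcd 3 (u + 1) = 3 ∧ u % 3 = 2) := by
  rcases (Nat.dvd_prime Nat.prime_three).1 (Nat.gcd_dvd_left 3 (u + 1)) with h1 | h1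
  · exact Or.inl h1
  · right
    have h2 : 3 ∣ u + 1 := by
      have := Nat.gcd_dvd_right 3 (u + 1)
      rwa [h1] at this
    exact ⟨h1, by omega⟩

theorem e6t_cast6 (u : ℕ) : ((u ^ 2 - u + 1 : ℕ) : ℤ) = (u : ℤ) ^ 2 - u + 1 := by
  have h3 : u ≤ u ^ 2 := Nat.le_self_pow two_ne_zero _
  push_cast [h3]
  rfl

theorem e6t_cast12 (u : ℕ) : ((u ^ 4 - u ^ 2 + 1 : ℕ) : ℤ) = (u : ℤ) ^ 4 - u ^ 2 + 1 := by
  have h3 : u ^ 2 ≤ u ^ 4 := by
    rcases Nat.eq_zero_or_pos u with rfl | h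
    · norm_num
    · exact Nat.pow_le_pow_right h (by norm_num)
  push_cast [h3]
  rfl

theorem e6t_cast18 (u : ℕ) : ((u ^ 6 - u ^ 3 + 1 : ℕ) : ℤ) = (u : ℤ) ^ 6 - u ^ 3 + 1 := by
  have h3 : u ^ 3 ≤ u ^ 6 := by
    rcases Nat.eq_zero_or_pos u with rfl | h
    · norm_num
    · exact Nat.pow_le_pow_right h (by norm_num)
  push_cast [h3]
  rfl

theorem gt3_dvd6 (u : ℕ) : Nat.gcd 3 (u + 1) ∣ u ^ 2 - u + 1 := by
  rcases gt3_cases u with h1 | ⟨h1, h2⟩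
  · rw [h1]; exact one_dvd _
  · rw [h1]
    obtain ⟨k, hk⟩ : ∃ k, u = 3 * k + 2 := ⟨u / 3, by omega⟩
    have h3 : (3 : ℤ) ∣ ((u ^ 2 - u + 1 : ℕ) : ℤ) := by
      rw [e6t_cast6, hk]
      push_cast
      exact ⟨3 * k ^ 2 + 3 * k + 1, by ring⟩
    exact_mod_cast h3

theorem gt3_dvd5 (u : ℕ) : Nat.gcd 3 (u + 1) ∣ u ^ 5 + 1 := by
  refine (Nat.gcd_dvd_right _ _).trans ?_
  exact ⟨u ^ 4 - u ^ 3 + u ^ 2 - u + 1, by
    have h1 : u ^ 3 ≤ u ^ 4 := by
      rcases Nat.eq_zero_or_pos u with rfl | h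
      · norm_num
      · exact Nat.pow_le_pow_right h (by norm_num)
    have h2 : u ≤ u ^ 4 - u ^ 3 + u ^ 2 := (Nat.le_self_pow two_ne_zero _).trans (Nat.le_add_left _ _)
    zify [h1, h2]
    ring⟩

theorem gt3_dvd18 (u : ℕ) : Nat.gcd 3 (u + 1) ∣ u ^ 6 - u ^ 3 + 1 := by
  rcases gt3_cases u with h1 | ⟨h1, h2⟩
  · rw [h1]; exact one_dvd _
  · rw [h1]
    obtain ⟨k, hk⟩ : ∃ k, u ^ 3 = 3 * k + 2 := ⟨u ^ 3 / 3, by
      have : u ^ 3 % 3 = 2 := by rw [Nat.pow_mod, h2]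
      omega⟩
    have h3 : (3 : ℤ) ∣ ((u ^ 6 - u ^ 3 + 1 : ℕ) : ℤ) := by
      have e3 : (u : ℤ) ^ 3 = 3 * k + 2 := by exact_mod_cast hk
      have e : (u : ℤ) ^ 6 = ((u : ℤ) ^ 3) ^ 2 := by ring
      rw [e6t_cast18, e, e3]
      exact ⟨3 * k ^ 2 + 3 * k + 1, by ring⟩
    exact_mod_cast h3

section D

variable {K : Type u} [Field K] [Fintype K] {q : ℕ} (hq : IsPrimePow q) (hK : Fintype.card K = q ^ 2)

include hq hK

theorem e6t_order {L : List (Fin 6 × Mat 6)} (hL : ChainOK H493.PGE6T.Am L) {Th : Mat 6}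
    (hTh : ∀ j, hd L (H493.TwE6Alg.pi j) = Th j)
    {f : ℕ} {c : Fin (f + 1) → ℤ} {V : Fin (f + 1) → Fin 6 → ℤ} {U : Fin 6 → ℤ}
    (h : EigOK (fun i j => Th j i) c V U) (hc : c 0 = 1 ∨ c 0 = -1) {m : ℕ} (hm : 0 < m)
    (hg : Nat.gcd 3 (q + 1) ∣ m)
    (h1 : (m : ℤ) ∣ pv c q) : ∃ x : ↥(twistedE6 K q), orderOf x = m / Nat.gcd 3 (q + 1) := by
  have := H493.PGE6.finW
  obtain ⟨p, e, hpF, hpk, he, hqe, hk⟩ := H493.PGE6T.setup hq hK
  have hqe' : (q : ℤ) = ((p ^ e : ℕ) : ℤ) := by rw [hqe]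
  rw [hqe'] at h1
  obtain ⟨x, hx⟩ := exists_order_eig RGDTwE6.hp CoxeterMatrix.E₆.toCoxeterSystem hk he isFrob_tau (fr_tau _)
    TorusChar.invC_E6 (by norm_num) (embT_injective (algebraMap K (AlgebraicClosure K)) q) (d := Nat.gcd 3 (q + 1))
    (fun y hy => tau_pow _ hqe hq hK hy) (H493.PGE6T.lin _ hL hTh) h hc hm h1
  have hg0 : 0 < Nat.gcd 3 (q + 1) := Nat.gcd_pos_of_pos_left _ (by norm_num)
  refine exists_order ⟨x, ?_⟩
  apply Nat.dvd_of_mul_dvd_mul_right hg0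
  rwa [Nat.div_mul_cancel hg]

theorem e6t_orderA : ∃ x : ↥(twistedE6 K q), orderOf x = (q ^ 5 + 1) * (q - 1) / Nat.gcd 3 (q + 1) := by
  have h2 : 1 < q := hq.one_lt
  refine e6t_order hq hK chainE6tA hThE6tA eigE6tA (by decide) (Nat.mul_pos (by omega) (by omega))
    ((gt3_dvd5 q).mul_right _) ?_
  rw [pvE6tA]
  push_cast [h2.le]
  exact dvd_rfl

theorem e6t_order18 : ∃ x : ↥(twistedE6 K q), orderOf x = (q ^ 6 - q ^ 3 + 1) / Nat.gcd 3 (q + 1) := by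
  refine e6t_order hq hK chainE6tB hThE6tB eigE6tB (by decide) (by omega) (gt3_dvd18 q) ?_
  rw [pvE6tB, e6t_cast18]

theorem e6t_orderC : ∃ x : ↥(twistedE6 K q), orderOf x =
    (q ^ 2 - q + 1) * (q ^ 4 - q ^ 2 + 1) / Nat.gcd 3 (q + 1) := by
  refine e6t_order hq hK chainE6tC hThE6tC eigE6tC (by decide) (Nat.mul_pos (by omega) (by omega))
    ((gt3_dvd6 q).mul_right _) ?_
  rw [pvE6tC, Nat.cast_mul, e6t_cast6, e6t_cast12]

/-- **`²E₆(u)`.** -/
theorem e6t_row {n : ℕ} (h : IsoN ↥(twistedE6 K q) n) :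
    n * Nat.gcd 3 (q + 1) = q ^ 6 - q ^ 3 + 1 ∨ (q = 2 ∧ n ∣ 13 * 17 * 19) := by
  by_cases hq2 : q = 2
  · right
    refine ⟨hq2, ?_⟩
    have hcard : Nat.card ↥(twistedE6 K q) = 2 ^ 36 * (33 * 63 * 255 * 513 * 4095) := by
      have h := S1066.result hq hK
      rw [hq2] at h ⊢
      norm_num at h ⊢
      omega
    have h1 : n ∣ (2 ^ 36 * 3 ^ 9 * 5 ^ 2 * 7 ^ 2 * 11) * (13 * 17 * 19) := by
      have h2 := h.dvd_card
      rw [hcard] at h2
      refine h2.trans (dvd_of_eq ?_)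
      norm_num
    refine dvd_of_primes h1 ?_
    intro r hr hrn hrA
    have hr5 : r = 2 ∨ r = 3 ∨ r = 5 ∨ r = 7 ∨ r = 11 := by
      rcases hr.dvd_mul.1 hrA with h2 | h2
      · rcases hr.dvd_mul.1 h2 with h3 | h3
        · rcases hr.dvd_mul.1 h3 with h4 | h4
          · rcases hr.dvd_mul.1 h4 with h5 | h5
            · exact Or.inl ((Nat.prime_dvd_prime_iff_eq hr Nat.prime_two).1 (hr.dvd_of_dvd_pow h5))
            · exact Or.inr (Or.inl ((Nat.prime_dvd_prime_iff_eq hr Nat.prime_three).1 (hr.dvd_of_dvd_pow h5)))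
          · exact Or.inr (Or.inr (Or.inl ((Nat.prime_dvd_prime_iff_eq hr Nat.prime_five).1 (hr.dvd_of_dvd_pow h4))))
        · exact Or.inr (Or.inr (Or.inr (Or.inl
            ((Nat.prime_dvd_prime_iff_eq hr (by norm_num : Nat.Prime 7)).1 (hr.dvd_of_dvd_pow h3)))))
      · exact Or.inr (Or.inr (Or.inr (Or.inr ((Nat.prime_dvd_prime_iff_eq hr (by norm_num : Nat.Prime 11)).1 h2))))
    rcases H378.TwRows.near_2E6 hq hK hr (h.prime_dvd_card hrn) with h2 | h2 | h2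
    · exact h.not_near hrn h2
    · have h3 := H378.ExcNear.mod_of_od hr h2 (by norm_num)
      have h4 := Nat.le_of_dvd (by have := hr.two_le; omega) h3
      omega
    · omega
  · left
    obtain ⟨r, hr, hrn⟩ := h.exists_prime
    have hgd := gt3_dvd18 q
    have h18 : H378.ExcAdj.od q r = 18 := by
      rcases H378.TwRows.near_2E6 hq hK hr (h.prime_dvd_card hrn) with h2 | h2 | h2
      · exact absurd h2 (h.not_near hrn)
      · exact h2
      · exact absurd h2.1 hq2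
    have hd1 : n ∣ q ^ 6 - q ^ 3 + 1 := by
      obtain ⟨g, hg⟩ := h.elt
      obtain ⟨k, hk⟩ := hrn
      have hn0 : 0 < n := by have := h.big; omega
      have hk0 : k ≠ 0 := by
        rintro rfl
        omega
      have h4 : orderOf (g ^ k) = r := by
        rw [orderOf_pow_of_dvd hk0 (by rw [hg, hk]; exact dvd_mul_left _ _), hg, hk,
          Nat.mul_div_cancel _ (Nat.pos_of_ne_zero hk0)]
      have h5 := (H378.TwRows.cent_2E6 hq hK hr h4 h18).2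
      rw [H378.TwRows.eval_cyc18, ← e6t_cast18, Int.natAbs_natCast] at h5
      have h6 : g ∈ Subgroup.centralizer {g ^ k} := by
        rw [Subgroup.mem_centralizer_singleton_iff]
        exact (Commute.self_pow g k).eq
      have h7 : orderOf (⟨g, h6⟩ : ↥(Subgroup.centralizer {g ^ k})) ∣ Nat.card ↥(Subgroup.centralizer {g ^ k}) :=
        orderOf_dvd_natCard _
      rw [Subgroup.orderOf_mk, hg] at h7
      exact h7.trans h5
    have hco : Nat.Coprime n (Nat.gcd 3 (q + 1)) :=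
      Nat.Coprime.coprime_dvd_right (Nat.gcd_dvd_left _ _)
        ((Nat.Prime.coprime_iff_not_dvd Nat.prime_three).2 h.not_three_dvd).symm
    have hd2 : n ∣ (q ^ 6 - q ^ 3 + 1) / Nat.gcd 3 (q + 1) :=
      hco.dvd_of_dvd_mul_right (by rw [Nat.div_mul_cancel hgd]; exact hd1)
    have hr3 : r ≠ 3 := h.ne_three hrn
    have hd3 : (q ^ 6 - q ^ 3 + 1) / Nat.gcd 3 (q + 1) ∣ n := by
      refine h.dvd_of_elt (e6t_order18 hq hK) hr hrn ?_
      have h4 : r ∣ q ^ 6 - q ^ 3 + 1 := hrn.trans hd1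
      rw [← Nat.div_mul_cancel hgd] at h4
      rcases hr.dvd_mul.1 h4 with h5 | h5
      · exact h5
      · exfalso
        exact hr3 ((Nat.prime_dvd_prime_iff_eq hr Nat.prime_three).1 (h5.trans (Nat.gcd_dvd_left _ _)))
    rw [Nat.dvd_antisymm hd2 hd3, Nat.div_mul_cancel hgd]

end D

end Cfsg.Agent.H366.Iso
end

private theorem dce_f705cae22852 : _root_.True := by
  try have : _root_.True := by simp only [_root_.Cfsg.Agent.H366.Iso.kE6tA.eq_1]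
  try have : _root_.True := by simp only [_root_.Cfsg.Agent.H366.Iso.kE6c.eq_1]
  try have : _root_.True := by simp only [_root_.Cfsg.Agent.H366.Iso.kE6tB.eq_1]
  try have : _root_.True := by simp only [_root_.Cfsg.Agent.H366.Iso.kE6a.eq_1]
  try have : _root_.True := by simp only [_root_.Cfsg.Agent.H366.Iso.kE6tC.eq_1]
  exact _root_.True.intro
end

-- part: H876/Six/TdOrd
section
set_option linter.all false
open scoped Cfsg.Agent.FastGrp

/-!
# The element orders of `³D₄(v)` in every characteristic (helper876, after helper378 and helper437)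

* `ord_td4` : upper bounds;
* `unip_le` : the `p`-part of an element order divides `p ^ 2`, `p ≥ 7`;
* `pr_td4` : every prime divisor `r ≠ p` of `v ^ 6 - 1` is adjacent to `p`.
-/

set_option autoImplicit false
set_option linter.unusedSectionVars false

namespace Cfsg.Agent.H876.Six.Td

open Cfsg Cfsg.Lie Cfsg.Lie.ChevalleyDatum
open Cfsg.Agent.H129.TriD4
open Cfsg.Agent.H135.TD
open Cfsg.Agent.H378

universe u

/-- **upper bounds for the element orders of `³D₄(v)`** -/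
theorem ord_td4 {K : Type u} [Field K] [Fintype K] {p v e : ℕ} (hp : p.Prime) (he : 0 < e) (hv : v = p ^ e)
    (hK : Fintype.card K = v ^ 3) [CharP K p] (g : ↥(twistedD4 K v)) :
    ∃ j m, orderOf g = p ^ j * m ∧ ¬ p ∣ m ∧
      ((j = 0 ∧ (m ∣ v ^ 4 - v ^ 2 + 1 ∨ m ∣ (v ^ 3 - 1) * (v + 1) ∨ m ∣ (v ^ 3 + 1) * (v - 1))) ∨ m = 1 ∨
        (j ≤ 1 ∧ (m ∣ v ^ 3 - 1 ∨ m ∣ v ^ 3 + 1)) ∨ (m ∣ v ^ 2 + v + 1 ∨ m ∣ v ^ 2 - v + 1)) := by
  have hpp : IsPrimePow v := by rw [hv]; exact hp.isPrimePow.pow he.ne'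
  have hv2 : 2 ≤ v := hpp.two_le
  obtain ⟨k, _, _, f, p', _, hC, _, hk, hka, -, -⟩ := TorFin.exists_closure K
  have hpp' : p' = p := by
    have h1 : CharP k p := charP_of_injective_ringHom f.injective p
    exact CharP.eq k hC h1
  subst hpp'
  set a := embT (k := k) f hpp hK g with ha
  have hσa : tau k p' e a = a := tau_embT f hv hpp hK g
  have hoa : orderOf a = orderOf g := orderOf_injective _ (embT_injective f hpp hK) g
  have hn0 : orderOf g ≠ 0 := (orderOf_pos g).ne'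
  obtain ⟨j, m, hpm, hn⟩ := Nat.exists_eq_pow_mul_and_not_dvd hn0 p' hp.ne_one
  have hm0 : m ≠ 0 := by
    rintro rfl
    rw [mul_zero] at hn
    exact hn0 hn
  have hpj : 0 < p' ^ j := pow_pos hp.pos j
  have hos : orderOf (a ^ p' ^ j) = m := by
    rw [orderOf_pow' _ hpj.ne', hoa, hn, Nat.gcd_mul_right_left, Nat.mul_div_cancel_left _ hpj]
  have hou : orderOf (a ^ m) = p' ^ j := by
    rw [orderOf_pow' _ hm0, hoa, hn, Nat.gcd_mul_left_left, Nat.mul_div_cancel _ (Nat.pos_of_ne_zero hm0)]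
  have hmp : m.Coprime p' := ((Nat.Prime.coprime_iff_not_dvd hp).2 hpm).symm
  have key := OmD4.main (k := k) (p := p') (e := e) hk hka (s := a ^ p' ^ j) (u := a ^ m) (by rw [map_pow, hσa])
    (by rw [← pow_add, ← pow_add, add_comm]) hm0 hmp
    (by rw [← pow_mul, ← hn, ← hoa, pow_orderOf_eq_one]) (j := j)
    (by rw [← pow_mul, mul_comm, ← hn, ← hoa, pow_orderOf_eq_one])
  rw [← hv] at key
  obtain ⟨c, hc⟩ : ∃ c, v = c + 2 := ⟨v - 2, by omega⟩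
  have e1 : v ^ 4 + v ^ 3 = (v + 1) + (v ^ 3 - 1) * (v + 1) := by
    obtain ⟨d, hd⟩ : ∃ d, v ^ 3 = d + 1 := ⟨v ^ 3 - 1, by have := Nat.one_le_pow 3 v (by omega); omega⟩
    rw [show v ^ 4 = v ^ 3 * v by ring, hd, Nat.add_sub_cancel]; ring
  have e2 : v ^ 4 + v = (v ^ 3 + 1) + (v ^ 3 + 1) * (v - 1) := by
    rw [hc, show c + 2 - 1 = c + 1 by omega]; ring
  have e3 : v ^ 4 + 1 = v ^ 2 + (v ^ 4 - v ^ 2 + 1) := by
    have : v ^ 2 ≤ v ^ 4 := Nat.pow_le_pow_right (by omega) (by norm_num)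
    omega
  have e4 : v ^ 2 + 1 = v + (v ^ 2 - v + 1) := by
    have : v ≤ v ^ 2 := by nlinarith only []
    omega
  have e5 : v ^ 3 = 1 + (v ^ 3 - 1) := by
    have := Nat.one_le_pow 3 v (by omega)
    (clear * - this; omega)
  refine ⟨j, m, hn, hpm, ?_⟩
  rcases key with ⟨hu, hs⟩ | ⟨hs, -, -⟩ | ⟨hu, hs⟩ | ⟨-, hs⟩
  · left
    rw [hu, orderOf_one] at hou
    refine ⟨?_, ?_⟩
    · by_contra hj
      have := (Nat.one_lt_pow hj hp.one_lt)
      omega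
    rw [← hos]
    rcases hs with hs | hs | hs
    · exact Or.inr (Or.inl (OmD4.dvd_of_pow_eq hs e1))
    · exact Or.inr (Or.inr (OmD4.dvd_of_pow_eq hs e2))
    · exact Or.inl (OmD4.dvd_of_pow_eq hs e3)
  · right; left
    rw [hs, orderOf_one] at hos
    exact hos.symm
  · right; right; left
    have h1 : p' ^ j ∣ p' ^ 1 := by rw [pow_one]; exact hou ▸ orderOf_dvd_of_pow_eq_one hu
    refine ⟨(Nat.pow_dvd_pow_iff_le_right hp.one_lt).1 h1, ?_⟩
    rcases hs with hs | hs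
    · exact Or.inl (hos ▸ OmD4.dvd_of_pow_eq (B := 1) (by rw [pow_one]; exact hs) e5)
    · exact Or.inr (hos ▸ orderOf_dvd_of_pow_eq_one hs)
  · right; right; right
    rcases hs with hs | hs
    · exact Or.inl (hos ▸ orderOf_dvd_of_pow_eq_one hs)
    · exact Or.inr (hos ▸ OmD4.dvd_of_pow_eq hs e4)

section unip

theorem pow_card_eq_zero {n : Type*} [Fintype n] [DecidableEq n] {K : Type*} [Field K] {M : Matrix n n K}
    (h : IsNilpotent M) : M ^ Fintype.card n = 0 := by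
  have h1 := Matrix.isNilpotent_charpoly_sub_pow_of_isNilpotent h
  have h2 : M.charpoly = Polynomial.X ^ Fintype.card n := sub_eq_zero.1 h1.eq_zero
  have h3 := Matrix.aeval_self_charpoly M
  rw [h2] at h3
  simpa only [_root_.map_pow, _root_.Polynomial.aeval_X] using h3

theorem unip_pow {n : Type*} [Fintype n] [DecidableEq n] [Nonempty n] {K : Type*} [Field K] {p : ℕ} [Fact p.Prime]
    [CharP K p] (x : GL n K) {j i : ℕ} (hx : x ^ p ^ j = 1) (hn : Fintype.card n ≤ p ^ i) : x ^ p ^ i = 1 := by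
  have hc : Commute (x : Matrix n n K) 1 := Commute.one_right _
  have h1 : ((x : Matrix n n K) - 1) ^ p ^ j = 0 := by
    rw [sub_pow_char_pow_of_commute _ _ hc, one_pow]
    have : ((x ^ p ^ j : GL n K) : Matrix n n K) = 1 := by rw [hx]; rfl
    rw [Units.val_pow_eq_pow_val] at this
    rw [this, sub_self]
  have h2 := pow_card_eq_zero ⟨_, h1⟩
  have h3 : ((x : Matrix n n K) - 1) ^ p ^ i = 0 := pow_eq_zero_of_le hn h2
  rw [sub_pow_char_pow_of_commute _ _ hc, one_pow] at h3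
  apply Units.ext
  rw [Units.val_pow_eq_pow_val, Units.val_one]
  exact sub_eq_zero.1 h3

theorem card_idx : Fintype.card chevD4.Idx = 28 := by
  rw [Fintype.card_sum, Fintype.card_fin, Fintype.card_fin]; rfl

/-- the `p`-part of an element order -/
theorem unip_le {K : Type u} [Field K] [Fintype K] {p v : ℕ} (hp : p.Prime) (h7 : 7 ≤ p) [CharP K p]
    (g : ↥(twistedD4 K v)) {j m : ℕ} (hg : orderOf g = p ^ j * m) : j ≤ 2 := by
  have : Fact p.Prime := ⟨hp⟩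
  have : Nonempty chevD4.Idx := Fintype.card_pos_iff.1 (by rw [card_idx]; norm_num)
  have h0 : 0 < orderOf g := orderOf_pos g
  have hm : m ≠ 0 := by
    rintro rfl
    rw [mul_zero] at hg
    omega
  have h1 : orderOf ((g : GL chevD4.Idx K) ^ m) = p ^ j := by
    rw [orderOf_pow' _ hm, Subgroup.orderOf_coe, hg, Nat.gcd_mul_left_left, Nat.mul_div_cancel _ (Nat.pos_of_ne_zero hm)]
  have h2 := unip_pow (p := p) (i := 2) ((g : GL chevD4.Idx K) ^ m) (j := j) (by rw [← h1, pow_orderOf_eq_one]) (by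
    rw [card_idx]
    calc 28 ≤ 7 ^ 2 := by norm_num
      _ ≤ p ^ 2 := Nat.pow_le_pow_left h7 2)
  have h3 := orderOf_dvd_of_pow_eq_one h2
  rw [h1] at h3
  exact (Nat.pow_dvd_pow_iff_le_right hp.one_lt).1 h3

end unip

section adj

open CoxeterSystem Subgroup Cfsg Cfsg.Lie Cfsg.Lie.ChevalleyDatum
open Cfsg.Agent.ChevalleyStructure.CoxeterGeomTypes
open Cfsg.Agent.Nodes Cfsg.Agent.Nodes.RGDChev Cfsg.Agent.KFacts.RgdChevCoord Cfsg.Agent.BpExc.TorChev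
open Cfsg.Agent.BpExc.TowChev
open Cfsg.Agent.H493.PGTorus Cfsg.Agent.H493.PGCyc Cfsg.Agent.H129.WData
open Cfsg.Agent.H94.PG
open Cfsg.Agent.H378.ExcAdj Cfsg.Agent.H378.TwAdj Cfsg.Agent.H378.TwRows

variable {K : Type u} [Field K] [Fintype K] {q : ℕ} (hq : IsPrimePow q) (hK : Fintype.card K = q ^ 3)

include hq hK

open Cfsg.Agent.H493.PGD4T in
/-- **`³D₄(q)`**: the prime divisors of the order and the characteristic. -/
theorem pr_td4 {p : ℕ} (hp : p.Prime) (hpq : p ∣ q) {r : ℕ} (hr : r.Prime) (hd : r ∣ Nat.card ↥(twistedD4 K q)) :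
    r = p ∨ Pr ↥(twistedD4 K q) r p ∨ od q r = 12 := by
  rw [Cfsg.Agent.S1067.result hq hK] at hd
  rcases cover hq.two_le hr hd with (h | h | h | h | h) | h
  · left
    obtain ⟨p', n, hp', hn, hpn⟩ := id hq
    have h1 : r ∣ p' ^ n := by rw [hpn]; exact h
    have h2 : p ∣ p' ^ n := by rw [hpn]; exact hpq
    rw [(Nat.prime_dvd_prime_iff_eq hr hp'.nat_prime).1 (hr.dvd_of_dvd_pow h1),
      (Nat.prime_dvd_prime_iff_eq hp hp'.nat_prime).1 (hp.dvd_of_dvd_pow h2)]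
  · exact Or.inr (Or.inl (pairD_p hq hK chainA_ok hThA eigA_1 (by decide) (by decide) fixA vanA_1 hr hp h hpq))
  · exact Or.inr (Or.inl (pairD_p hq hK chainB_ok hThB eigB_2 (by decide) (by decide) fixB vanB_2 hr hp h hpq))
  · exact Or.inr (Or.inl (pairD_p hq hK chainA_ok hThA eigA_3 (by decide) (by decide) fixA vanA_3 hr hp h hpq))
  · exact Or.inr (Or.inl (pairD_p hq hK chainB_ok hThB eigB_6 (by decide) (by decide) fixB vanB_6 hr hp h hpq))
  · exact Or.inr (Or.inr (od_of_c12 hr h))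

end adj

end Cfsg.Agent.H876.Six.Td
end
end
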